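import Groth.Prelude.Def_ModSite
import Groth.Agent.Lib.ModTensor.FlatMono
import Groth.Agent.Lib.SiteMod.Basic
import Mathlib.Algebra.Category.ModuleCat.Presheaf.Free
import Mathlib.RingTheory.Flat.Basic
import Mathlib.RingTheory.Flat.Tensor

/-!
# Free sheaves of modules on presheaves of sets
-/

set_option linter.style.haveILetI false

universe u

open CategoryTheory Limits Opposite MonoidalCategory

namespace Groth.Agent.Lib.FreeMod.Basic

open Groth.Agent.Lib.ModTensor.Monoidal

variable {C : Type u} [SmallCategory C] {J : GrothendieckTopology C} (O : Sheaf J CommRingCat.{u})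

/-- The free presheaf of modules on a presheaf of sets. -/
noncomputable abbrev freePre : (Cᵒᵖ ⥤ Type u) ⥤ PM O :=
  PresheafOfModules.free (O.obj ⋙ forget₂ CommRingCat.{u} RingCat.{u})

/-- The free sheaf of modules on a presheaf of sets. -/
noncomputable def FrP : (Cᵒᵖ ⥤ Type u) ⥤ _root_.ModSite.Mod O := freePre O ⋙ L.{u, u, u} O

/-- The underlying presheaf of sets of a module. -/
noncomputable abbrev toSets : _root_.ModSite.Mod O ⥤ Cᵒᵖ ⥤ Type u :=
  G.{u, u, u} O ⋙ (PresheafOfModules.toPresheaf _ ⋙
    (Functor.whiskeringRight _ _ _).obj (forget Ab.{u}))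

/-- `FrP` is left adjoint to the underlying presheaf of sets. -/
noncomputable def frAdj : FrP O ⊣ toSets O :=
  (PresheafOfModules.freeAdjunction _).comp (adj.{u, u, u} O)

variable {O}

/-- Tensoring with a sectionwise flat presheaf preserves monomorphisms of sheaves. -/
theorem mono_tenRightP_map {P : PM O} (hP : ∀ U : Cᵒᵖ, Module.Flat (O.obj.obj U) (P.obj U))
    {X Y : _root_.ModSite.Mod O} (f : X ⟶ Y) [Mono f] : Mono ((tenRightP.{u, u, u} P).map f) := by
  haveI : PreservesFiniteLimits (L.{u, u, u} O) :=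
    inferInstanceAs (PreservesFiniteLimits (PresheafOfModules.sheafification.{u} (𝟙 (rs O).obj)))
  haveI := (adj.{u, u, u} O).isRightAdjoint
  haveI : Mono ((G.{u, u, u} O).map f) := inferInstance
  haveI : Mono ((G.{u, u, u} O).map f ▷ P) := by
    rw [PresheafOfModules.mono_iff_surjective]
    intro U
    have h₀ := (PresheafOfModules.mono_iff_surjective ((G.{u, u, u} O).map f)).1 inferInstance
    haveI : Module.Flat ((O.obj ⋙ forget₂ CommRingCat.{u} RingCat.{u}).obj U) (P.obj U) := hP U
    exact Module.Flat.rTensor_preserves_injective_linearMap (R := O.obj.obj U) (M := P.obj U)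
      (((G.{u, u, u} O).map f).app U).hom (@h₀ U)
  change Mono ((L.{u, u, u} O).map ((G.{u, u, u} O).map f ▷ P))
  infer_instance

/-- The sheafification of a sectionwise flat presheaf of modules is flat. -/
theorem isFlat_L {P : PM O} (hP : ∀ U : Cᵒᵖ, Module.Flat (O.obj.obj U) (P.obj U)) :
    _root_.ModSite.IsFlat ((L.{u, u, u} O).obj P) := by
  rw [ModTensor.FlatMono.isFlat_iff_mono]
  intro X Y f hf
  haveI := hf
  haveI := mono_tenRightP_map hP f
  have e : ((_root_.ModSite.tensorBi O).flip.obj ((L.{u, u, u} O).obj P)) ≅ tenRightP.{u, u, u} P :=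
    ModTensor.ModSite.tensorBiFlipIso _ ≪≫ (tenRightPIso.{u, u, u} P).symm
  exact (MorphismProperty.monomorphisms _).arrow_mk_iso_iff
    (Arrow.isoMk (e.app X) (e.app Y) (e.hom.naturality f).symm) |>.2 this

variable (O)

/-- Free sheaves of modules are flat. -/
theorem isFlat_FrP (S : Cᵒᵖ ⥤ Type u) : _root_.ModSite.IsFlat ((FrP O).obj S) :=
  isFlat_L fun U => inferInstanceAs (Module.Flat (O.obj.obj U) (S.obj U →₀ O.obj.obj U))

end Groth.Agent.Lib.FreeMod.Basic
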