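import Groth.Agent.Lib.SiteCoh.Fillers
import Mathlib.Data.Finsupp.Basic
import Mathlib.Algebra.BigOperators.Finsupp.Basic

/-!
# Local acyclicity of chains with arbitrary coefficients
-/

universe u v

open CategoryTheory Opposite

namespace Groth.Agent.Lib.FreeMod.Coeff

open Groth.Agent.Lib.SiteCoh.Fillers

variable {C : Type u} [SmallCategory C] (A : SemiPsh C) {M : Type v} [AddCommGroup M]
  {N : C → Type v} [∀ V, AddCommGroup (N V)]

/-- The boundary of chains with coefficients. -/
noncomputable def bd (k : ℕ) (U : C) (z : (A.obj (k + 1)).obj (op U) →₀ M) :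
    (A.obj k).obj (op U) →₀ M :=
  ∑ i : Fin (k + 1), (-1 : ℤ) ^ (i : ℕ) • z.mapDomain (face A i)

lemma mapDomain_zsmul {α β : Type*} {P : Type*} [AddCommGroup P] (f : α → β) (n : ℤ)
    (x : α →₀ P) : (n • x).mapDomain f = n • x.mapDomain f :=
  map_zsmul (Finsupp.mapDomain.addMonoidHom f) n x

variable {A} {J : GrothendieckTopology C}

/-- Every cycle with coefficients is locally a boundary. -/
theorem exists_cover_boundary (hA : HasFillers A J) (k : ℕ) {U : C}
    (z : (A.obj (k + 1)).obj (op U) →₀ M) (hz : bd A k U z = 0) (ρ : ∀ V : C, (V ⟶ U) → M →+ N V) :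
    ∃ S ∈ J U, ∀ ⦃V : C⦄ (g : V ⟶ U), S.arrows g → ∃ w : (A.obj (k + 2)).obj (op V) →₀ N V,
      bd A (k + 1) V w = (z.mapRange (ρ V g) (map_zero _)).mapDomain (res A g) := by
  classical
  let T : Set ((A.obj (k + 1)).obj (op U)) := ↑z.support
  let z' : T →₀ M := z.comapDomain Subtype.val Subtype.val_injective.injOn
  have hzz : z'.mapDomain Subtype.val = z :=
    Finsupp.mapDomain_comapDomain Subtype.val Subtype.val_injective z (by
      rw [Subtype.range_coe])
  refine ⟨stepSieve A T,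
    stepSieve_mem hA T z.support.finite_toSet fun T' hT' => coneSieve_mem hA k T' hT', ?_⟩
  rintro V g ⟨c, T', h, c', hc, hc'⟩
  let w : T →₀ N V := z'.mapRange (ρ V g) (map_zero _)
  refine ⟨w.mapDomain c, ?_⟩
  rw [bd, Fin.sum_univ_succ, Fin.val_zero, pow_zero, one_smul]
  have h0 : (w.mapDomain c).mapDomain (face A 0) =
      (z.mapRange (ρ V g) (map_zero _)).mapDomain (res A g) := by
    rw [← Finsupp.mapDomain_comp, ← hzz,
      ← Finsupp.mapDomain_mapRange _ _ _ (map_zero _) (map_add _), ← Finsupp.mapDomain_comp]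
    exact congrArg (fun f => Finsupp.mapDomain f w) (funext hc)
  let fT : Fin (k + 1) → T → T' := fun i x => ⟨_, h x x.2 i⟩
  have hs : ∀ i : Fin (k + 1), (w.mapDomain c).mapDomain (face A i.succ) =
      (w.mapDomain (fT i)).mapDomain c' := by
    intro i
    rw [← Finsupp.mapDomain_comp, ← Finsupp.mapDomain_comp]
    exact congrArg (fun f => Finsupp.mapDomain f w) (funext fun x => hc' x i)
  have hz' : ∑ i : Fin (k + 1), (-1 : ℤ) ^ (i : ℕ) • z'.mapDomain (fT i) = 0 := by
    apply Finsupp.mapDomain_injective (M := M) (Subtype.val_injective (p := (· ∈ T')))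
    rw [Finsupp.mapDomain_zero, ← hz, bd, Finsupp.mapDomain_finsetSum]
    refine Finset.sum_congr rfl fun i _ => ?_
    rw [mapDomain_zsmul, ← Finsupp.mapDomain_comp]
    conv_rhs => rw [← hzz, ← Finsupp.mapDomain_comp]
    rfl
  have hw : ∑ i : Fin (k + 1), (-1 : ℤ) ^ (i : ℕ) • w.mapDomain (fT i) = 0 := by
    have h' := congrArg (Finsupp.mapRange.addMonoidHom (ρ V g)) hz'
    rw [map_zero, map_sum] at h'
    refine Eq.trans (Finset.sum_congr rfl fun i _ => ?_) h'
    rw [map_zsmul]
    refine congrArg _ ?_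
    exact Finsupp.mapDomain_mapRange _ _ _ (map_zero _) (map_add _)
  rw [h0]
  simp only [hs, Fin.val_succ, pow_succ, mul_neg, mul_one, neg_smul, Finset.sum_neg_distrib]
  rw [show ∑ i : Fin (k + 1), (-1 : ℤ) ^ (i : ℕ) • (w.mapDomain (fT i)).mapDomain c'
      = (∑ i : Fin (k + 1), (-1 : ℤ) ^ (i : ℕ) • w.mapDomain (fT i)).mapDomain c' by
    rw [Finsupp.mapDomain_finsetSum]
    exact Finset.sum_congr rfl fun i _ => (mapDomain_zsmul _ _ _).symm, hw,
    Finsupp.mapDomain_zero]
  simp

end Groth.Agent.Lib.FreeMod.Coeff
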