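import Groth.Agent.Lib.SiteKFlat.Exact

/-!
# Tensoring right bounded exact sequences of flat modules
-/

set_option linter.style.haveILetI false

universe u

open CategoryTheory Limits

namespace Groth.Agent.Lib.FreeMod.FlatSeq

open Groth.Agent.Lib.SiteKFlat

variable {C : Type u} [SmallCategory C] {J : GrothendieckTopology C} {O : Sheaf J CommRingCat.{u}}
  {A : ℕ → ModSite.Mod O} (d : ∀ k, A (k + 1) ⟶ A k) (w : ∀ k, d (k + 1) ≫ d k = 0)

/-- The cycles. -/
noncomputable abbrev Z (k : ℕ) : ModSite.Mod O := kernel (d k)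

/-- The map onto the cycles. -/
noncomputable abbrev toZ (k : ℕ) : A (k + 2) ⟶ Z d k := kernel.lift (d k) (d (k + 1)) (w k)

lemma ι_toZ (k : ℕ) : kernel.ι (d (k + 1)) ≫ toZ d w k = 0 := by
  rw [← cancel_mono (kernel.ι (d k)), Category.assoc, kernel.lift_ι, kernel.condition, zero_comp]

variable (h : ∀ k, (ShortComplex.mk _ _ (w k)).Exact) (h₀ : Epi (d 0))
include h h₀

omit h in
lemma shortExact_zero : (ShortComplex.mk _ _ (kernel.condition (d 0))).ShortExact :=
  haveI := h₀
  { exact := ShortComplex.exact_kernel _ }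

omit h₀ in
lemma shortExact_succ (k : ℕ) :
    (ShortComplex.mk (kernel.ι (d (k + 1))) (toZ d w k) (ι_toZ d w k)).ShortExact := by
  haveI : Epi (toZ d w k) := (h k).epi_kernelLift
  refine { exact := ShortComplex.exact_of_f_is_kernel _ ?_ }
  refine KernelFork.IsLimit.ofι' _ _ fun {P} g hg => ⟨kernel.lift _ g ?_, kernel.lift_ι _ _ _⟩
  have h' : g ≫ toZ d w k ≫ kernel.ι (d k) = 0 := by
    rw [← Category.assoc, hg, zero_comp]
  rwa [kernel.lift_ι] at h'

variable (hA : ∀ k, ModSite.IsFlat (A k))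
include hA

lemma isFlat_Z : ∀ k, ModSite.IsFlat (Z d k)
  | 0 => Exact.isFlat_left (shortExact_zero d h₀) (hA 1) (hA 0)
  | k + 1 => Exact.isFlat_left (shortExact_succ d w h k) (hA (k + 2)) (isFlat_Z k)

lemma mono_map_ι (F : ModSite.Mod O) : ∀ k,
    Mono (((ModSite.tensorBi O).flip.obj F).map (kernel.ι (d k)))
  | 0 => Exact.mono_map_of_flat₃ (shortExact_zero d h₀) (hA 0) F
  | k + 1 => Exact.mono_map_of_flat₃ (shortExact_succ d w h k) (isFlat_Z d w h h₀ hA k) F

/-- Tensoring keeps the sequence exact. -/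
theorem exact_map (F : ModSite.Mod O) (k : ℕ) (w') :
    (ShortComplex.mk (((ModSite.tensorBi O).flip.obj F).map (d (k + 1)))
      (((ModSite.tensorBi O).flip.obj F).map (d k)) w').Exact := by
  let T := (ModSite.tensorBi O).flip.obj F
  haveI : Epi (toZ d w k) := (h k).epi_kernelLift
  haveI : Epi (T.map (toZ d w k)) := inferInstance
  haveI := mono_map_ι d w h h₀ hA F k
  have e : T.map (toZ d w k) ≫ T.map (kernel.ι (d k)) = T.map (d (k + 1)) :=
    (T.map_comp _ _).symm.trans (congrArg T.map (kernel.lift_ι _ _ _))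
  rw [ShortComplex.exact_iff_exact_up_to_refinements]
  intro P x hx
  have key : ∃ (P' : ModSite.Mod O) (π : P' ⟶ P) (_ : Epi π) (z : P' ⟶ T.obj (Z d k)),
      π ≫ x = z ≫ T.map (kernel.ι (d k)) := by
    cases k with
    | zero =>
      exact (Exact.exact_map_of_rightExact T (shortExact_zero d h₀)).1.exact_up_to_refinements x hx
    | succ k =>
      haveI := mono_map_ι d w h h₀ hA F k
      refine (Exact.exact_map_of_rightExact T
        (shortExact_succ d w h k)).1.exact_up_to_refinements x ?_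
      refine (cancel_mono (T.map (kernel.ι (d k)))).1 ?_
      refine (Category.assoc _ _ _).trans (Eq.trans ?_ zero_comp.symm)
      refine Eq.trans ?_ hx
      exact congrArg (x ≫ ·) ((T.map_comp _ _).symm.trans (congrArg T.map (kernel.lift_ι _ _ _)))
  obtain ⟨P', π, hπ, z, hz⟩ := key
  obtain ⟨P'', π', hπ', y, hy⟩ := surjective_up_to_refinements_of_epi (T.map (toZ d w k)) z
  refine ⟨P'', π' ≫ π, epi_comp _ _, y, ?_⟩
  refine (Category.assoc _ _ _).trans ((congrArg (π' ≫ ·) hz).trans ?_)
  refine (Category.assoc _ _ _).symm.trans ((congrArg (· ≫ T.map (kernel.ι (d k))) hy).trans ?_)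
  exact (Category.assoc _ _ _).trans (congrArg (y ≫ ·) e)

end Groth.Agent.Lib.FreeMod.FlatSeq
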