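import Groth.Agent.Lib.FreeMod.Basic
import Groth.Agent.Lib.FreeMod.Coeff
import Groth.Agent.Lib.SiteCoh.FreeRes
import Groth.Agent.Lib.SiteCoh.NerveRes
import Mathlib.Algebra.Category.ModuleCat.Presheaf.Sheafification
import Mathlib.Algebra.Category.ModuleCat.Sheaf.Abelian
import Mathlib.Algebra.Homology.ShortComplex.ExactFunctor

/-!
# Free modules on the nerve of an epimorphism of sheaves of sets
-/

set_option linter.style.haveILetI false

universe u

open CategoryTheory Limits Opposite Simplicial

namespace Groth.Agent.Lib.FreeMod.Nerve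

open Groth.Agent.Lib.SiteCoh Groth.Agent.Lib.ModTensor.Monoidal Fillers FreeRes

variable {C : Type u} [SmallCategory C] {J : GrothendieckTopology C}

section Generic

variable {B : Type*} [Category B] [Preadditive B] (F : (Cᵒᵖ ⥤ Type u) ⥤ B)

/-- Alternating sum of faces after applying `F`. -/
noncomputable def fs (A : SemiPsh C) (k : ℕ) : F.obj (A.obj (k + 1)) ⟶ F.obj (A.obj k) :=
  ∑ i : Fin (k + 1), (-1 : ℤ) ^ (i : ℕ) • F.map (A.d k i)

lemma fs_map {B' : Type*} [Category B'] [Preadditive B'] (G : B ⥤ B') [G.Additive] (A : SemiPsh C)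
    (k : ℕ) : G.map (fs F A k) = fs (F ⋙ G) A k := by
  simp [fs, Functor.map_sum, Functor.map_zsmul]

lemma fs_natural {F F' : (Cᵒᵖ ⥤ Type u) ⥤ B} (α : F ⟶ F') (A : SemiPsh C) (k : ℕ) :
    α.app (A.obj (k + 1)) ≫ fs F' A k = fs F A k ≫ α.app (A.obj k) := by
  simp only [fs, Preadditive.comp_sum, Preadditive.sum_comp, Preadditive.comp_zsmul,
    Preadditive.zsmul_comp, NatTrans.naturality]

lemma fs_comp (X : SimplicialObject.Augmented (Cᵒᵖ ⥤ Type u)) (k : ℕ) :
    fs F (ofAugmented X) (k + 1) ≫ fs F (ofAugmented X) k = 0 := by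
  let Y : SimplicialObject.Augmented B := ((SimplicialObject.Augmented.whiskering _ _).obj F).obj X
  cases k with
  | zero =>
    have h1 : fs F (ofAugmented X) 1 = Y.left.δ 0 - Y.left.δ 1 := by
      simp only [fs, Nat.reduceAdd, Fin.sum_univ_two, Fin.val_zero, Fin.val_one, pow_zero,
        one_smul, pow_one, neg_smul, ← sub_eq_add_neg]
      rfl
    have h0 : fs F (ofAugmented X) 0 = Y.hom.app (op ⦋0⦌) := by
      simp only [fs, Nat.reduceAdd, Finset.univ_unique, Fin.default_eq_zero,
        Finset.sum_singleton, Fin.val_zero, pow_zero, one_smul]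
      exact (Category.comp_id _).symm
    rw [h1, h0]
    refine (Preadditive.sub_comp _ _ _).trans (sub_eq_zero.2 ?_)
    exact (SimplicialObject.δ_naturality Y.hom 0).trans (SimplicialObject.δ_naturality Y.hom 1).symm
  | succ k =>
    exact AlgebraicTopology.AlternatingFaceMapComplex.d_squared Y.left k

end Generic

variable (O : Sheaf J CommRingCat.{u})

/-- Free modules, as abelian presheaves. -/
noncomputable abbrev freeAb : (Cᵒᵖ ⥤ Type u) ⥤ (Cᵒᵖ ⥤ AddCommGrpCat.{u}) :=
  Basic.freePre O ⋙ PresheafOfModules.toPresheaf _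

lemma freeAb_map_apply {S T : Cᵒᵖ ⥤ Type u} (φ : S ⟶ T) (U : Cᵒᵖ)
    (z : S.obj U →₀ O.obj.obj U) :
    ((freeAb O).map φ).app U z = z.mapDomain (φ.app U) := rfl

lemma fs_apply (A : SemiPsh C) (k : ℕ) (U : C)
    (z : (A.obj (k + 1)).obj (op U) →₀ O.obj.obj (op U)) :
    (fs (freeAb O) A k).app (op U) z = Coeff.bd A k U z := by
  unfold fs
  rw [NatTrans.app_sum]
  refine (congrArg (fun f : _ →+ _ => f z) (map_sum (AddCommGrpCat.homAddEquiv
    (M := ((freeAb O).obj (A.obj (k + 1))).obj (op U))
    (N := ((freeAb O).obj (A.obj k)).obj (op U))) _ _)).trans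
      ((AddMonoidHom.finsetSum_apply _ _ z).trans ?_)
  refine Finset.sum_congr rfl fun i _ => ?_
  rfl

lemma freeAb_res (S : Cᵒᵖ ⥤ Type u) {U V : Cᵒᵖ} (g : U ⟶ V) (z : S.obj U →₀ O.obj.obj U) :
    ((freeAb O).obj S).map g z =
      (z.mapRange (O.obj.map g).hom (map_zero _)).mapDomain (S.map g) := by
  induction z using Finsupp.induction with
  | zero =>
    rw [Finsupp.mapRange_zero, Finsupp.mapDomain_zero]
    exact map_zero (((freeAb O).obj S).map g).hom
  | single_add a r z ha hr ih =>
    rw [Finsupp.mapRange_add (by simp), Finsupp.mapDomain_add, ← ih, Finsupp.mapRange_single,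
      Finsupp.mapDomain_single]
    refine (map_add (((freeAb O).obj S).map g).hom _ _).trans (congrArg (· + _) ?_)
    have e : (((Basic.freePre O).obj S).map g).hom (Finsupp.single a (1 : O.obj.obj U)) =
        Finsupp.single (S.map g a) (1 : O.obj.obj V) := ModuleCat.freeDesc_apply _ a
    have h := ((Basic.freePre O).obj S).map_smul g (r : O.obj.obj U) (Finsupp.single a (1 : O.obj.obj U))
    rw [show ((Basic.freePre O).obj S).map g (Finsupp.single a (1 : O.obj.obj U)) =
      Finsupp.single (S.map g a) (1 : O.obj.obj V) from e] at h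
    refine Eq.trans ?_ (h.trans ?_)
    · exact congrArg _ (Finsupp.smul_single_one a r).symm
    · exact Finsupp.smul_single_one (S.map g a) ((O.obj.map g).hom r : O.obj.obj V)

variable {O}

/-- The underlying abelian sheaf of a free module. -/
noncomputable def frPToAbIso :
    Basic.FrP O ⋙ SheafOfModules.toSheaf.{u} (_root_.ModSite.ringSh O) ≅
      freeAb O ⋙ presheafToSheaf J AddCommGrpCat.{u} :=
  Functor.isoWhiskerLeft (Basic.freePre O)
    (PresheafOfModules.sheafificationCompToSheaf (𝟙 (rs O).obj))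

instance additive_toPresheaf' :
    (PresheafOfModules.toPresheaf (O.obj ⋙ forget₂ CommRingCat.{u} RingCat.{u})).Additive := inferInstance

/-- The free modules on a semi-simplicial presheaf with fillers form an exact sequence. -/
theorem exact_fs {X : SimplicialObject.Augmented (Cᵒᵖ ⥤ Type u)}
    (hX : HasFillers (ofAugmented X) J) (k : ℕ) :
    (ShortComplex.mk _ _ (fs_comp (Basic.FrP O) X k)).Exact := by
  let S : ShortComplex (Cᵒᵖ ⥤ AddCommGrpCat.{u}) := ShortComplex.mk _ _ (fs_comp (freeAb O) X k)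
  have h : (S.map (presheafToSheaf J AddCommGrpCat.{u})).Exact := by
    refine LocExact.exact_map_of_locally_exact _ fun U x hx => ?_
    obtain ⟨R, hR, hR'⟩ := Coeff.exists_cover_boundary (M := O.obj.obj (op U))
      (N := fun V : C => O.obj.obj (op V)) hX k x
      ((fs_apply O (ofAugmented X) k U x).symm.trans hx)
      (fun V g => (O.obj.map g.op).hom.toAddMonoidHom)
    refine ⟨R, hR, fun V g hg => ?_⟩
    obtain ⟨w, hw⟩ := hR' g hg
    exact ⟨w, (fs_apply O (ofAugmented X) (k + 1) V w).trans
      (hw.trans (freeAb_res O _ g.op x).symm)⟩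
  refine (ShortComplex.exact_map_iff_of_faithful _
    (SheafOfModules.toSheaf.{u} (_root_.ModSite.ringSh O))).1 ?_
  refine ShortComplex.exact_of_iso (ShortComplex.isoMk (frPToAbIso.app _).symm
    (frPToAbIso.app _).symm (frPToAbIso.app _).symm ?_ ?_) h
  all_goals
    exact ((congrArg (_ ≫ ·) (fs_map (Basic.FrP O)
      (SheafOfModules.toSheaf.{u} (_root_.ModSite.ringSh O)) _ _)).trans
        (fs_natural frPToAbIso.inv _ _)).trans
      (congrArg (· ≫ _) (fs_map (freeAb O) (presheafToSheaf J AddCommGrpCat.{u}) _ _).symm)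

/-- Local surjectivity gives an epimorphism of free modules. -/
theorem epi_map_of_isLocallySurjective {S T : Cᵒᵖ ⥤ Type u} (φ : S ⟶ T)
    [Presheaf.IsLocallySurjective J φ] : Epi ((Basic.FrP O).map φ) := by
  suffices Epi ((presheafToSheaf J AddCommGrpCat.{u}).map ((freeAb O).map φ)) by
    haveI := this
    have e := frPToAbIso (O := O).hom.naturality φ
    haveI : Epi ((SheafOfModules.toSheaf.{u} (_root_.ModSite.ringSh O)).map ((Basic.FrP O).map φ)) :=
      ((MorphismProperty.epimorphisms _).arrow_mk_iso_iff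
        (Arrow.isoMk (frPToAbIso.app S) (frPToAbIso.app T) e.symm)).2 this
    exact (SheafOfModules.toSheaf.{u} (_root_.ModSite.ringSh O)).epi_of_epi_map this
  refine LocExact.epi_map_of_isLocallySurjective _ ⟨fun {U} s => ?_⟩
  induction s using Finsupp.induction with
  | zero => exact J.superset_covering (fun V g _ => ⟨0, (map_zero (((freeAb O).map φ).app _).hom).trans
      (map_zero (((freeAb O).obj T).map g.op).hom).symm⟩) (J.top_mem U)
  | single_add a r z ha hr ih =>
    refine J.superset_covering ?_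
      (J.intersection_covering (Presheaf.imageSieve_mem J φ (U := op U) a) ih)
    rintro V g ⟨⟨t, ht⟩, ⟨t', ht'⟩⟩
    refine ⟨(show ((freeAb O).obj S).obj (op V) from Finsupp.single t ((O.obj.map g.op).hom r)) + t', ?_⟩
    refine (map_add (((freeAb O).map φ).app (op V)).hom _ _).trans (Eq.trans ?_
      (map_add (((freeAb O).obj T).map g.op).hom _ _).symm)
    refine congrArg₂ (· + ·) ?_ ht'
    refine (freeAb_map_apply O φ (op V) _).trans (Eq.trans ?_ (freeAb_res O T g.op _).symm)
    rw [Finsupp.mapDomain_single, Finsupp.mapRange_single, Finsupp.mapDomain_single]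
    exact congrArg (Finsupp.single · _) ht

end Groth.Agent.Lib.FreeMod.Nerve
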