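import Groth.Agent.Lib.FreeMod.FlatSeq
import Groth.Agent.Lib.FreeMod.Nerve
import Groth.Agent.Lib.SiteCoh.TotAcyclic

/-!
# Internal homs into injective modules are totally acyclic
-/

set_option linter.style.haveILetI false

universe u

open CategoryTheory Limits Opposite Simplicial

namespace Groth.Agent.Lib.FreeMod.TotAcyclic

open Groth.Agent.Lib.SiteCoh Groth.Agent.Lib.ModTensor.Monoidal FreeRes Fillers

variable {C : Type u} [SmallCategory C] {J : GrothendieckTopology C} (O : Sheaf J CommRingCat.{u})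

/-- The free abelian sheaf on a presheaf of sets is left adjoint to the underlying presheaf. -/
noncomputable def freePAdj : freeP J ⊣ sheafToPresheaf J AddCommGrpCat.{u} ⋙
    (Functor.whiskeringRight Cᵒᵖ AddCommGrpCat.{u} (Type u)).obj (forget AddCommGrpCat.{u}) :=
  (AddCommGrpCat.adj.whiskerRight Cᵒᵖ).comp (sheafificationAdjunction J AddCommGrpCat.{u})

/-- Maps out of free modules and free abelian sheaves agree. -/
noncomputable def homEquivAb (S : Cᵒᵖ ⥤ Type u) (M : _root_.ModSite.Mod O) :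
    ((Basic.FrP O).obj S ⟶ M) ≃ ((freeP J).obj S ⟶ _root_.ModSite.toAb M) :=
  ((Basic.frAdj O).homEquiv S M).trans ((freePAdj).homEquiv S (_root_.ModSite.toAb M)).symm

lemma homEquivAb_left {S T : Cᵒᵖ ⥤ Type u} (φ : S ⟶ T) {M : _root_.ModSite.Mod O}
    (y : (Basic.FrP O).obj T ⟶ M) :
    homEquivAb O S M ((Basic.FrP O).map φ ≫ y) = (freeP J).map φ ≫ homEquivAb O T M y := by
  change ((freePAdj (J := J)).homEquiv S (_root_.ModSite.toAb M)).symm
    ((Basic.frAdj O).homEquiv S M ((Basic.FrP O).map φ ≫ y)) = _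
  rw [Adjunction.homEquiv_naturality_left]
  exact Adjunction.homEquiv_naturality_left_symm _ _ _

/-- The comparison map. -/
noncomputable def κ (S : Cᵒᵖ ⥤ Type u) :
    (freeP J).obj S ⟶ _root_.ModSite.toAb ((Basic.FrP O).obj S) := homEquivAb O S _ (𝟙 _)

lemma homEquivAb_eq (S : Cᵒᵖ ⥤ Type u) {M : _root_.ModSite.Mod O} (y : (Basic.FrP O).obj S ⟶ M) :
    homEquivAb O S M y = κ O S ≫ (SheafOfModules.toSheaf _).map y := by
  have e₁ : (Basic.frAdj O).homEquiv S M y =
      (Basic.frAdj O).homEquiv S _ (𝟙 _) ≫ (Basic.toSets O).map y := by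
    rw [← Adjunction.homEquiv_naturality_right, Category.id_comp]
  change (freePAdj.homEquiv S _).symm _ = (freePAdj.homEquiv S _).symm _ ≫ _
  rw [← Adjunction.homEquiv_naturality_right_symm, e₁]
  rfl

lemma homEquivAb_fs (A : SemiPsh C) (k : ℕ) {M : _root_.ModSite.Mod O}
    (y : (Basic.FrP O).obj (A.obj k) ⟶ M) :
    homEquivAb O _ M (Nerve.fs (Basic.FrP O) A k ≫ y) =
      Nerve.fs (freeP J) A k ≫ homEquivAb O _ M y := by
  simp only [Nerve.fs, Preadditive.sum_comp, Preadditive.zsmul_comp, ← homEquivAb_left]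
  simp only [homEquivAb_eq, Functor.map_sum, Functor.map_zsmul, Preadditive.comp_sum,
    Preadditive.comp_zsmul]

lemma exists_desc {A : Type*} [Category A] [Abelian A] {X Y Z I : A} [Injective I] {f : X ⟶ Y}
    {g : Y ⟶ Z} {w : f ≫ g = 0} (h : (ShortComplex.mk f g w).Exact) (k : Y ⟶ I)
    (hk : f ≫ k = 0) : ∃ z : Z ⟶ I, g ≫ z = k :=
  ⟨h.descToInjective k hk, h.comp_descToInjective k hk⟩

/-- Internal homs into injective modules are totally acyclic. -/
theorem isTotallyAcyclic_sheafHom (F G : _root_.ModSite.Mod O) [_root_.ModSite.HasSheafHom F]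
    [Injective G] :
    CohCx.IsTotallyAcyclic (_root_.ModSite.toAb ((_root_.ModSite.sheafHom F).obj G)) := by
  refine SiteCoh.TotAcyclic.isTotallyAcyclic_of_exactHom fun {K' K} f hf q x hx => ?_
  haveI := hf
  let X := NerveRes.nervePsh f
  let A := ofAugmented X
  have hA := NerveRes.hasFillers f
  have hd : ∀ n, (NerveCx.nerveP f).d (n + 1) n = Nerve.fs (freeP J) A (n + 1) := by
    intro n
    refine (AlgebraicTopology.AlternatingFaceMapComplex.obj_d_eq _ n).trans ?_
    exact Finset.sum_congr rfl fun i _ => rfl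
  let M := (_root_.ModSite.sheafHom F).obj G
  let T := (_root_.ModSite.tensorBi O).flip.obj F
  let x' : (Basic.FrP O).obj (A.obj (q + 2)) ⟶ M := (homEquivAb O _ M).symm x
  have hx' : Nerve.fs (Basic.FrP O) A (q + 2) ≫ x' = 0 := by
    apply (homEquivAb O _ M).injective
    rw [homEquivAb_fs, Equiv.apply_symm_apply, homEquivAb_eq, Functor.map_zero, comp_zero]
    exact (congrArg (· ≫ x) (hd (q + 1)).symm).trans hx
  haveI : Epi (Nerve.fs (Basic.FrP O) A 0) := by
    have e : Nerve.fs (Basic.FrP O) A 0 = (Basic.FrP O).map (A.d 0 0) := by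
      simp [Nerve.fs]
    rw [e]
    haveI := hA.surj
    exact Nerve.epi_map_of_isLocallySurjective _
  have hex := FlatSeq.exact_map (fun k => Nerve.fs (Basic.FrP O) A k)
    (Nerve.fs_comp (Basic.FrP O) X) (Nerve.exact_fs hA) inferInstance
    (fun k => Basic.isFlat_FrP O _) F (q + 1)
    (by rw [← Functor.map_comp, Nerve.fs_comp, Functor.map_zero])
  let adj := _root_.ModSite.sheafHomAdj F
  have hz : T.map (Nerve.fs (Basic.FrP O) A (q + 2)) ≫ (adj.homEquiv _ G).symm x' = 0 := by
    rw [← Adjunction.homEquiv_naturality_left_symm, hx', Adjunction.homEquiv_counit,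
      Functor.map_zero, zero_comp]
  obtain ⟨z, hz'⟩ := exists_desc hex _ hz
  refine ⟨homEquivAb O _ M (adj.homEquiv _ G z), ?_⟩
  refine (congrArg (· ≫ homEquivAb O (A.obj (q + 1)) M (adj.homEquiv _ G z)) (hd q)).trans ?_
  refine (homEquivAb_fs O A (q + 1) (adj.homEquiv _ G z)).symm.trans ?_
  refine (congrArg (homEquivAb O _ M) ?_).trans (Equiv.apply_symm_apply _ x)
  exact (Adjunction.homEquiv_naturality_left _ _ _).symm.trans
    ((congrArg (adj.homEquiv _ G) hz').trans (Equiv.apply_symm_apply _ _))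

end Groth.Agent.Lib.FreeMod.TotAcyclic
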